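import Mathlib
import Cfsg.Agent.Lib.Helper5.AltOrders

/-!
# The set of element orders of the alternating group of degree ten
-/

set_option autoImplicit false

namespace Cfsg.Agent.Lib.Helper4.Maz

open Cfsg.Agent.Lib.Helper5

/-- the element orders of `A₁₀` -/
def specList : List ℕ := [1, 2, 3, 4, 5, 6, 7, 8, 9, 10, 12, 15, 21]

theorem a10_forward : ∀ l ∈ partsAux 10 10 10, (l.sum + l.length) % 2 = 0 →
    listLcm l ∈ specList := by
  decide

theorem a10_backward : ∀ k ∈ specList, ∃ l ∈ partsAux 10 10 10, listLcm l = k ∧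
    (l.sum + l.length) % 2 = 0 ∧ l.sum ≤ 10 ∧ ∀ a ∈ l, 2 ≤ a := by
  decide

/-- the spectrum of `A₁₀` -/
theorem a10_spectrum : Set.range (orderOf : alternatingGroup (Fin 10) → ℕ) = {k | k ∈ specList} := by
  ext k
  rw [mem_range_orderOf_alternatingGroup_iff_list]
  constructor
  · rintro ⟨l, hl, rfl, hev, -, -⟩
    exact a10_forward l hl hev
  · intro hk
    exact a10_backward k hk

end Cfsg.Agent.Lib.Helper4.Maz
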