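import Mathlib
import Cfsg.Agent.Lib.Helper1.MatCode3

/-!
# Coded matrices: sums, geometric sums, and pairs of codes

Additions to the coded matrices of `Cfsg.Agent.Lib.Helper1.MatCode`: the coded sum of two matrices,
coded geometric sums `1 + g + ⋯ + g ^ k`, and the componentwise operations on pairs consisting of a
code of a `4 × 4` matrix over `ZMod 7` and a code of a `12 × 12` matrix over `ZMod 3`.
-/

set_option autoImplicit false

namespace Cfsg.Agent.Lib.Helper4.Maz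

open Cfsg.Agent.Lib.Helper1.MatCode

section addition

variable (n p : ℕ)

/-- coded sum -/
def addN (a b : ℕ) : ℕ := sumTo (n * n) (fun k => ((dig W a k + dig W b k) % p) * W ^ k)

theorem dig_addN (hp : 0 < p) (hpW : p ≤ W) (a b k : ℕ) (hk : k < n * n) :
    dig W (addN n p a b) k = (dig W a k + dig W b k) % p := by
  unfold addN
  rw [sumTo_eq]
  apply dig_sum W one_lt_W (fun k => (dig W a k + dig W b k) % p) _ (n * n) k hk
  intro m
  exact lt_of_lt_of_le (Nat.mod_lt _ hp) hpW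

theorem idx_lt (i j : Fin n) : n * (i : ℕ) + (j : ℕ) < n * n := by
  have h1 := i.2
  have h2 := j.2
  calc n * (i : ℕ) + (j : ℕ) < n * (i : ℕ) + n := by omega
    _ = n * ((i : ℕ) + 1) := by ring
    _ ≤ n * n := Nat.mul_le_mul_left _ h1

theorem dec_addN (hp : 0 < p) (hpW : p ≤ W) (a b : ℕ) :
    dec n p (addN n p a b) = dec n p a + dec n p b := by
  ext i j
  simp only [dec, Matrix.add_apply]
  rw [dig_addN n p hp hpW a b _ (idx_lt n i j), ZMod.natCast_mod, Nat.cast_add]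

theorem canon_addN (hp : 0 < p) (hpW : p ≤ W) (a b : ℕ) : Canon n p (addN n p a b) := by
  intro m hm
  rw [dig_addN n p hp hpW a b m hm]
  exact Nat.mod_lt _ hp

theorem dec_zero : dec n p 0 = 0 := by
  ext i j
  simp [dec, dig]

/-- coded geometric sums: `hor c1 g k` codes `1 + g + ⋯ + g ^ k` -/
def hor (c1 g : ℕ) : ℕ → ℕ
  | 0 => c1
  | k + 1 => addN n p c1 (mulN n p (hor c1 g k) g)

theorem dec_hor (hp : 0 < p) (hpW : p ≤ W) (hbound : n * ((p - 1) * (p - 1)) < W) {c1 g : ℕ}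
    (h1 : dec n p c1 = 1) (hg : Canon n p g) (k : ℕ) :
    dec n p (hor n p c1 g k) = ∑ i ∈ Finset.range (k + 1), dec n p g ^ i := by
  induction k with
  | zero => simp [hor, h1]
  | succ k ih =>
    rw [hor, dec_addN n p hp hpW, dec_mulN n p hp hpW hbound _ _ hg, ih, h1,
      Finset.sum_range_succ' _ (k + 1), Finset.sum_mul, pow_zero, add_comm]
    simp only [pow_succ]

end addition

/-- the `4 × 4` matrices over `ZMod 7` -/
abbrev M7 : Type := Matrix (Fin 4) (Fin 4) (ZMod 7)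

/-- the `12 × 12` matrices over `ZMod 3` -/
abbrev M3 : Type := Matrix (Fin 12) (Fin 12) (ZMod 3)

/-- decoding of a pair -/
def DP (c : ℕ × ℕ) : M7 × M3 := (dec 4 7 c.1, dec 12 3 c.2)

/-- coded product of pairs -/
def muP (a b : ℕ × ℕ) : ℕ × ℕ := (mulN 4 7 a.1 b.1, mulN 12 3 a.2 b.2)

/-- canonical pairs -/
def CanonP (c : ℕ × ℕ) : Prop := Canon 4 7 c.1 ∧ Canon 12 3 c.2

/-- check for canonical pairs -/
def canonPB (c : ℕ × ℕ) : Bool := canonB 4 7 c.1 && canonB 12 3 c.2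

theorem canonP_of_canonPB {c : ℕ × ℕ} (h : canonPB c = true) : CanonP c := by
  unfold canonPB at h
  rw [Bool.and_eq_true] at h
  exact ⟨canon_of_canonB 4 7 h.1, canon_of_canonB 12 3 h.2⟩

theorem hmuP (a b : ℕ × ℕ) (hb : CanonP b) : DP (muP a b) = DP a * DP b :=
  Prod.ext (dec_mulN 4 7 (by decide) (by decide) (by decide) a.1 b.1 hb.1)
    (dec_mulN 12 3 (by decide) (by decide) (by decide) a.2 b.2 hb.2)

theorem canon_muP (a b : ℕ × ℕ) : CanonP (muP a b) :=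
  ⟨canon_mulN 4 7 (by decide) (by decide) a.1 b.1, canon_mulN 12 3 (by decide) (by decide) a.2 b.2⟩

/-- coded powers of pairs -/
def powP (c1 c : ℕ × ℕ) : ℕ → ℕ × ℕ
  | 0 => c1
  | k + 1 => muP (powP c1 c k) c

theorem DP_powP {c1 c : ℕ × ℕ} (h1 : DP c1 = 1) (hc : CanonP c) (k : ℕ) :
    DP (powP c1 c k) = DP c ^ k := by
  induction k with
  | zero => rw [pow_zero]; exact h1
  | succ k ih => rw [powP, hmuP _ _ hc, ih, pow_succ]

/-- geometric sums -/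
def gs {R : Type*} [Semiring R] (n : ℕ) (a : R) : R := ∑ i ∈ Finset.range n, a ^ i

theorem gs_mul_sub {R : Type*} [Ring R] (n : ℕ) (a : R) : gs n a * (a - 1) = a ^ n - 1 :=
  geom_sum_mul a n

theorem pow_eq_one_of_gs {R : Type*} [Ring R] {n : ℕ} {a : R} (h : gs n a = 0) : a ^ n = 1 := by
  have := gs_mul_sub n a
  rw [h, zero_mul] at this
  exact (sub_eq_zero.mp this.symm)

/-- the property checked on all the elements of the group -/
def Good (m : M7 × M3) : Prop :=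
  m = 1 ∨ (gs 8 m.1 = 0 ∧ gs 8 m.2 = 0) ∨ (gs 10 m.1 = 0 ∧ gs 10 m.2 = 0) ∨
    (gs 12 m.1 = 0 ∧ gs 12 m.2 = 0) ∨ (gs 3 m.1 = 0 ∧ m.2 ^ 3 = 1) ∨ (gs 5 m.1 = 0 ∧ m.2 ^ 5 = 1)

/-- the coded check of `Good` -/
def okK (c1 c : ℕ × ℕ) : Bool :=
  c == c1 ||
  ((hor 4 7 c1.1 c.1 7 == 0 && hor 12 3 c1.2 c.2 7 == 0) ||
  ((hor 4 7 c1.1 c.1 9 == 0 && hor 12 3 c1.2 c.2 9 == 0) ||
  ((hor 4 7 c1.1 c.1 11 == 0 && hor 12 3 c1.2 c.2 11 == 0) ||
  ((hor 4 7 c1.1 c.1 2 == 0 && (powP c1 c 3).2 == c1.2) ||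
   (hor 4 7 c1.1 c.1 4 == 0 && (powP c1 c 5).2 == c1.2)))))

theorem gs7_of_hor {c1 c : ℕ × ℕ} (h1 : DP c1 = 1) (hc : CanonP c) (k : ℕ)
    (h : (hor 4 7 c1.1 c.1 k == 0) = true) : gs (k + 1) (DP c).1 = 0 := by
  have e := dec_hor 4 7 (by decide) (by decide) (by decide) (congrArg Prod.fst h1) hc.1 k
  rw [beq_iff_eq] at h
  rw [h, dec_zero] at e
  exact e.symm

theorem gs3_of_hor {c1 c : ℕ × ℕ} (h1 : DP c1 = 1) (hc : CanonP c) (k : ℕ)
    (h : (hor 12 3 c1.2 c.2 k == 0) = true) : gs (k + 1) (DP c).2 = 0 := by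
  have e := dec_hor 12 3 (by decide) (by decide) (by decide) (congrArg Prod.snd h1) hc.2 k
  rw [beq_iff_eq] at h
  rw [h, dec_zero] at e
  exact e.symm

theorem pow3_of_powP {c1 c : ℕ × ℕ} (h1 : DP c1 = 1) (hc : CanonP c) (k : ℕ)
    (h : ((powP c1 c k).2 == c1.2) = true) : (DP c).2 ^ k = 1 := by
  rw [beq_iff_eq] at h
  have e := congrArg Prod.snd (DP_powP h1 hc k)
  rw [Prod.pow_snd] at e
  rw [← e]
  show dec 12 3 (powP c1 c k).2 = 1
  rw [h]
  exact congrArg Prod.snd h1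

theorem okK_sound {c1 c : ℕ × ℕ} (h1 : DP c1 = 1) (hc : CanonP c) (h : okK c1 c = true) :
    Good (DP c) := by
  unfold okK at h
  simp only [Bool.or_eq_true, Bool.and_eq_true] at h
  rcases h with h | ⟨h, h'⟩ | ⟨h, h'⟩ | ⟨h, h'⟩ | ⟨h, h'⟩ | ⟨h, h'⟩
  · rw [beq_iff_eq] at h
    exact Or.inl (by rw [h, h1])
  · exact Or.inr (Or.inl ⟨gs7_of_hor h1 hc 7 h, gs3_of_hor h1 hc 7 h'⟩)
  · exact Or.inr (Or.inr (Or.inl ⟨gs7_of_hor h1 hc 9 h, gs3_of_hor h1 hc 9 h'⟩))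
  · exact Or.inr (Or.inr (Or.inr (Or.inl ⟨gs7_of_hor h1 hc 11 h, gs3_of_hor h1 hc 11 h'⟩)))
  · exact Or.inr (Or.inr (Or.inr (Or.inr (Or.inl ⟨gs7_of_hor h1 hc 2 h, pow3_of_powP h1 hc 3 h'⟩))))
  · exact Or.inr (Or.inr (Or.inr (Or.inr (Or.inr ⟨gs7_of_hor h1 hc 4 h, pow3_of_powP h1 hc 5 h'⟩))))

/-- `L` is closed under right multiplication by `s` -/
def chkRCP (L : List (ℕ × ℕ)) (s : ℕ × ℕ) : Bool := L.all (fun q => L.contains (muP q s))

theorem chkRCP_sound {L : List (ℕ × ℕ)} {s : ℕ × ℕ} (hs : CanonP s) (h : chkRCP L s = true) :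
    ∀ q ∈ L, ∃ q' ∈ L, DP q * DP s = DP q' := by
  intro q hq
  unfold chkRCP at h
  rw [List.all_eq_true] at h
  have h1 := h q hq
  rw [List.contains_iff_mem] at h1
  exact ⟨muP q s, h1, (hmuP q s hs).symm⟩

end Cfsg.Agent.Lib.Helper4.Maz
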