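import Mathlib
import Cfsg.Agent.Lib.Helper4.Maz.Code
import Cfsg.Agent.Lib.Helper4.Maz.Data

/-!
# Kernel checks for the coded group of order 240
-/

set_option autoImplicit false

namespace Cfsg.Agent.Lib.Helper4.Maz

open Cfsg.Agent.Lib.Helper1.MatCode

set_option maxRecDepth 100000

theorem canon_all : (cX :: cY :: cXi :: cYi :: c1 :: LK).all canonPB = true := by
  decide +kernel

theorem rc_X : chkRCP LK cX = true := by decide +kernel

theorem rc_Y : chkRCP LK cY = true := by decide +kernel

theorem c1_mem : LK.contains c1 = true := by decide +kernel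

theorem inv_X : (muP cX cXi == c1 && muP cXi cX == c1) = true := by decide +kernel

theorem inv_Y : (muP cY cYi == c1 && muP cYi cY == c1) = true := by decide +kernel

theorem ok_all : LK.all (okK c1) = true := by decide +kernel

/-- code of an element of order `12` -/
def c12 : ℕ × ℕ := muP cX cY

/-- code of an element of order `3` -/
def c3 : ℕ × ℕ := muP (muP cX cX) cY

/-- code of an element of order `10` -/
def c10 : ℕ × ℕ := muP (muP (muP cX cX) cY) cY

theorem ord_8 : ((powP c1 cX 8 == c1) && neB 4 7 (powP c1 cX 4).1 c1.1) = true := by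
  decide +kernel

theorem ord_10 : ((powP c1 c10 10 == c1) && (neB 4 7 (powP c1 c10 5).1 c1.1 &&
    neB 4 7 (powP c1 c10 2).1 c1.1)) = true := by
  decide +kernel

theorem ord_12 : ((powP c1 c12 12 == c1) && (neB 4 7 (powP c1 c12 6).1 c1.1 &&
    neB 4 7 (powP c1 c12 4).1 c1.1)) = true := by
  decide +kernel

theorem ord_3 : ((powP c1 c3 3 == c1) && (neB 4 7 c3.1 c1.1 &&
    neB 12 3 (hor 12 3 c1.2 c3.2 2) 0)) = true := by
  decide +kernel

theorem ord_5 : ((powP c1 cY 5 == c1) && (neB 4 7 cY.1 c1.1 &&
    neB 12 3 (hor 12 3 c1.2 cY.2 4) 0)) = true := by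
  decide +kernel

end Cfsg.Agent.Lib.Helper4.Maz
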