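import Mathlib
import Cfsg.Agent.Lib.Helper4.Maz.Check

/-!
# The group of order 240 generated by the coded pairs: every element is `Good`
-/

set_option autoImplicit false

namespace Cfsg.Agent.Lib.Helper4.Maz

open Cfsg.Agent.Lib.Helper1.MatCode

theorem canonP_of_mem {c : ℕ × ℕ} (hc : c ∈ cX :: cY :: cXi :: cYi :: c1 :: LK) : CanonP c := by
  have h := canon_all
  rw [List.all_eq_true] at h
  exact canonP_of_canonPB (h c hc)

theorem canon_cX : CanonP cX := canonP_of_mem (by simp)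
theorem canon_cY : CanonP cY := canonP_of_mem (by simp)
theorem canon_cXi : CanonP cXi := canonP_of_mem (by simp)
theorem canon_cYi : CanonP cYi := canonP_of_mem (by simp)
theorem canon_c1 : CanonP c1 := canonP_of_mem (by simp)

theorem canon_of_mem_LK {c : ℕ × ℕ} (h : c ∈ LK) : CanonP c :=
  canonP_of_mem (List.mem_cons_of_mem _ (List.mem_cons_of_mem _ (List.mem_cons_of_mem _
    (List.mem_cons_of_mem _ (List.mem_cons_of_mem _ h)))))

theorem DP_c1 : DP c1 = 1 := by
  unfold DP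
  exact Prod.ext (by decide +kernel) (by decide +kernel)

theorem X_mul : DP cX * DP cXi = 1 := by
  have h := inv_X
  rw [Bool.and_eq_true, beq_iff_eq, beq_iff_eq] at h
  rw [← hmuP _ _ canon_cXi, h.1, DP_c1]

theorem Xi_mul : DP cXi * DP cX = 1 := by
  have h := inv_X
  rw [Bool.and_eq_true, beq_iff_eq, beq_iff_eq] at h
  rw [← hmuP _ _ canon_cX, h.2, DP_c1]

theorem Y_mul : DP cY * DP cYi = 1 := by
  have h := inv_Y
  rw [Bool.and_eq_true, beq_iff_eq, beq_iff_eq] at h
  rw [← hmuP _ _ canon_cYi, h.1, DP_c1]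

theorem Yi_mul : DP cYi * DP cY = 1 := by
  have h := inv_Y
  rw [Bool.and_eq_true, beq_iff_eq, beq_iff_eq] at h
  rw [← hmuP _ _ canon_cY, h.2, DP_c1]

/-- the ambient group -/
abbrev GG : Type := GL (Fin 4) (ZMod 7) × GL (Fin 12) (ZMod 3)

/-- the first generator -/
def xU : GG :=
  (⟨(DP cX).1, (DP cXi).1, congrArg Prod.fst X_mul, congrArg Prod.fst Xi_mul⟩,
   ⟨(DP cX).2, (DP cXi).2, congrArg Prod.snd X_mul, congrArg Prod.snd Xi_mul⟩)

/-- the second generator -/
def yU : GG :=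
  (⟨(DP cY).1, (DP cYi).1, congrArg Prod.fst Y_mul, congrArg Prod.fst Yi_mul⟩,
   ⟨(DP cY).2, (DP cYi).2, congrArg Prod.snd Y_mul, congrArg Prod.snd Yi_mul⟩)

/-- the group of order `240` -/
def KG : Subgroup GG := Subgroup.closure {xU, yU}

/-- the pair of matrices of an element -/
def psi : GG →* M7 × M3 := MonoidHom.prodMap (Units.coeHom M7) (Units.coeHom M3)

theorem psi_injective : Function.Injective psi := by
  intro a b h
  have h1 : (a.1 : M7) = b.1 := congrArg Prod.fst h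
  have h2 : (a.2 : M3) = b.2 := congrArg Prod.snd h
  exact Prod.ext (Units.ext h1) (Units.ext h2)

theorem psi_xU : psi xU = DP cX := rfl

theorem psi_yU : psi yU = DP cY := rfl

/-- the decoded list -/
def XK : Set (M7 × M3) := {m | ∃ q ∈ LK, m = DP q}

theorem XK_finite : XK.Finite := Set.toFinite _

theorem one_mem_XK : (1 : M7 × M3) ∈ XK :=
  ⟨c1, List.contains_iff_mem.mp c1_mem, DP_c1.symm⟩

theorem step_XK : ∀ u ∈ ({xU, yU} : Set GG), ∀ q ∈ XK, q * psi u ∈ XK := by
  rintro u hu q ⟨a, ha, rfl⟩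
  rcases hu with rfl | rfl
  · obtain ⟨q', hq', h⟩ := chkRCP_sound canon_cX rc_X a ha
    exact ⟨q', hq', by rw [psi_xU, h]⟩
  · obtain ⟨q', hq', h⟩ := chkRCP_sound canon_cY rc_Y a ha
    exact ⟨q', hq', by rw [psi_yU, h]⟩

theorem good_of_mem (g : GG) (hg : g ∈ KG) : Good (psi g) := by
  obtain ⟨q, hq, h⟩ := subgroup_closure_subset psi XK_finite one_mem_XK _ step_XK g hg
  rw [h]
  have hall := ok_all
  rw [List.all_eq_true] at hall
  exact okK_sound DP_c1 (canon_of_mem_LK hq) (hall q hq)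

/-- the pair of matrices of an element of `KG` -/
def phi : ↥KG →* M7 × M3 := psi.comp KG.subtype

theorem phi_injective : Function.Injective phi :=
  psi_injective.comp Subtype.val_injective

theorem good_KG (g : ↥KG) : Good (phi g) := good_of_mem g.1 g.2

/-- first generator -/
def xK : ↥KG := ⟨xU, Subgroup.subset_closure (by simp)⟩

/-- second generator -/
def yK : ↥KG := ⟨yU, Subgroup.subset_closure (by simp)⟩

theorem phi_xK : phi xK = DP cX := rfl

theorem phi_yK : phi yK = DP cY := rfl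

/-- an element of order `12` -/
def g12 : ↥KG := xK * yK

/-- an element of order `3` -/
def g3 : ↥KG := xK * xK * yK

/-- an element of order `10` -/
def g10 : ↥KG := xK * xK * yK * yK

theorem phi_g12 : phi g12 = DP c12 := by
  rw [g12, map_mul, phi_xK, phi_yK, c12, hmuP _ _ canon_cY]

theorem phi_g3 : phi g3 = DP c3 := by
  rw [g3, map_mul, map_mul, phi_xK, phi_yK, c3, hmuP _ _ canon_cY, hmuP _ _ canon_cX]

theorem phi_g10 : phi g10 = DP c10 := by
  rw [g10, map_mul, map_mul, map_mul, phi_xK, phi_yK, c10, hmuP _ _ canon_cY, hmuP _ _ canon_cY,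
    hmuP _ _ canon_cX]

theorem canon_c12 : CanonP c12 := canon_muP _ _
theorem canon_c3 : CanonP c3 := canon_muP _ _
theorem canon_c10 : CanonP c10 := canon_muP _ _

theorem pow_eq_one_of {g : ↥KG} {c : ℕ × ℕ} (hc : CanonP c) (hg : phi g = DP c) (k : ℕ)
    (h : (powP c1 c k == c1) = true) : g ^ k = 1 := by
  apply phi_injective
  rw [beq_iff_eq] at h
  rw [map_pow, hg, ← DP_powP DP_c1 hc, h, DP_c1, map_one]

theorem pow_ne_one_of {g : ↥KG} {c : ℕ × ℕ} (hc : CanonP c) (hg : phi g = DP c) (k : ℕ)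
    (h : neB 4 7 (powP c1 c k).1 c1.1 = true) : g ^ k ≠ 1 := by
  intro h1
  have h2 := congrArg phi h1
  rw [map_pow, hg, ← DP_powP DP_c1 hc, map_one, ← DP_c1] at h2
  exact dec_ne_of_neB 4 7 h (congrArg Prod.fst h2)

theorem ne_one_of {g : ↥KG} {c : ℕ × ℕ} (hg : phi g = DP c)
    (h : neB 4 7 c.1 c1.1 = true) : g ≠ 1 := by
  intro h1
  have h2 := congrArg phi h1
  rw [hg, map_one, ← DP_c1] at h2
  exact dec_ne_of_neB 4 7 h (congrArg Prod.fst h2)

theorem orderOf_xK : orderOf xK = 8 := by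
  have h := ord_8
  rw [Bool.and_eq_true] at h
  have e1 : xK ^ 2 ^ (2 + 1) = 1 := pow_eq_one_of canon_cX phi_xK 8 h.1
  have e2 : ¬ xK ^ 2 ^ 2 = 1 := pow_ne_one_of canon_cX phi_xK 4 h.2
  have : Fact (Nat.Prime 2) := ⟨Nat.prime_two⟩
  exact orderOf_eq_prime_pow e2 e1

theorem orderOf_g10 : orderOf g10 = 10 := by
  have h := ord_10
  rw [Bool.and_eq_true, Bool.and_eq_true] at h
  have e1 : g10 ^ 10 = 1 := pow_eq_one_of canon_c10 phi_g10 10 h.1
  have e2 : g10 ^ 5 ≠ 1 := pow_ne_one_of canon_c10 phi_g10 5 h.2.1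
  have e3 : g10 ^ 2 ≠ 1 := pow_ne_one_of canon_c10 phi_g10 2 h.2.2
  apply orderOf_eq_of_pow_and_pow_div_prime (by norm_num) e1
  intro p hp hd
  have h2 : p = 2 ∨ p = 5 := by
    have hle : p ≤ 10 := Nat.le_of_dvd (by norm_num) hd
    interval_cases p <;> first
      | (exfalso; revert hp; norm_num; done)
      | (exfalso; revert hd; norm_num; done)
      | simp
  rcases h2 with rfl | rfl
  · have e : (10 / 2 : ℕ) = 5 := by norm_num
    rw [e]
    exact e2
  · have e : (10 / 5 : ℕ) = 2 := by norm_num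
    rw [e]
    exact e3

theorem orderOf_g12 : orderOf g12 = 12 := by
  have h := ord_12
  rw [Bool.and_eq_true, Bool.and_eq_true] at h
  have e1 : g12 ^ 12 = 1 := pow_eq_one_of canon_c12 phi_g12 12 h.1
  have e2 : g12 ^ 6 ≠ 1 := pow_ne_one_of canon_c12 phi_g12 6 h.2.1
  have e3 : g12 ^ 4 ≠ 1 := pow_ne_one_of canon_c12 phi_g12 4 h.2.2
  apply orderOf_eq_of_pow_and_pow_div_prime (by norm_num) e1
  intro p hp hd
  have h2 : p = 2 ∨ p = 3 := by
    have hle : p ≤ 12 := Nat.le_of_dvd (by norm_num) hd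
    interval_cases p <;> first
      | (exfalso; revert hp; norm_num; done)
      | (exfalso; revert hd; norm_num; done)
      | simp
  rcases h2 with rfl | rfl
  · have e : (12 / 2 : ℕ) = 6 := by norm_num
    rw [e]
    exact e2
  · have e : (12 / 3 : ℕ) = 4 := by norm_num
    rw [e]
    exact e3

theorem orderOf_g3 : orderOf g3 = 3 := by
  have h := ord_3
  rw [Bool.and_eq_true, Bool.and_eq_true] at h
  have e1 : g3 ^ 3 = 1 := pow_eq_one_of canon_c3 phi_g3 3 h.1
  have e2 : g3 ≠ 1 := ne_one_of phi_g3 h.2.1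
  have : Fact (Nat.Prime 3) := ⟨Nat.prime_three⟩
  exact orderOf_eq_prime e1 e2

theorem orderOf_yK : orderOf yK = 5 := by
  have h := ord_5
  rw [Bool.and_eq_true, Bool.and_eq_true] at h
  have e1 : yK ^ 5 = 1 := pow_eq_one_of canon_cY phi_yK 5 h.1
  have e2 : yK ≠ 1 := ne_one_of phi_yK h.2.1
  have : Fact (Nat.Prime 5) := ⟨Nat.prime_five⟩
  exact orderOf_eq_prime e1 e2

theorem gs_g3_ne : gs 3 (phi g3).2 ≠ 0 := by
  have h := ord_3
  rw [Bool.and_eq_true, Bool.and_eq_true] at h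
  have e := dec_hor 12 3 (by decide) (by decide) (by decide) (congrArg Prod.snd DP_c1) canon_c3.2 2
  rw [phi_g3]
  intro h0
  have h1 : dec 12 3 (hor 12 3 c1.2 c3.2 2) = dec 12 3 0 := by
    rw [e, dec_zero]
    exact h0
  exact dec_ne_of_neB 12 3 h.2.2 h1

theorem gs_yK_ne : gs 5 (phi yK).2 ≠ 0 := by
  have h := ord_5
  rw [Bool.and_eq_true, Bool.and_eq_true] at h
  have e := dec_hor 12 3 (by decide) (by decide) (by decide) (congrArg Prod.snd DP_c1) canon_cY.2 4
  rw [phi_yK]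
  intro h0
  have h1 : dec 12 3 (hor 12 3 c1.2 cY.2 4) = dec 12 3 0 := by
    rw [e, dec_zero]
    exact h0
  exact dec_ne_of_neB 12 3 h.2.2 h1

end Cfsg.Agent.Lib.Helper4.Maz
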