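import Mathlib
import Cfsg.Agent.Lib.Helper4.Maz.Group
import Cfsg.Agent.Lib.Helper4.Maz.A10
import Cfsg.Agent.Lib.Helper7.AffExt
import Cfsg.Agent.Lib.Helper7.AffFrob

/-!
# The semidirect products `(7 ^ (4k) × 3 ^ (12k)) : K` and their element orders

`K` is the group of order `240` of `Maz.Group`; it acts on `(ZMod 7) ^ 4` without fixed points and on
`(ZMod 3) ^ 12`.  The element orders of the semidirect product with `k ≥ 1` copies of both modules
are exactly `1, …, 10, 12, 15, 21`.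
-/

set_option autoImplicit false

namespace Cfsg.Agent.Lib.Helper4.Maz

open Cfsg.Agent.Lib.Helper7

/-- the module: `k` copies of `(ZMod 7) ^ 4` and `k` copies of `(ZMod 3) ^ 12` -/
def VK (k : ℕ) : Type := (Fin k → Fin 4 → ZMod 7) × (Fin k → Fin 12 → ZMod 3)

instance (k : ℕ) : AddCommGroup (VK k) :=
  inferInstanceAs (AddCommGroup ((Fin k → Fin 4 → ZMod 7) × (Fin k → Fin 12 → ZMod 3)))

instance (k : ℕ) : Finite (VK k) :=
  inferInstanceAs (Finite ((Fin k → Fin 4 → ZMod 7) × (Fin k → Fin 12 → ZMod 3)))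

/-- constructor -/
def VK.mk {k : ℕ} (a : Fin k → Fin 4 → ZMod 7) (b : Fin k → Fin 12 → ZMod 3) : VK k := (a, b)

/-- first component -/
def VK.a {k : ℕ} (v : VK k) : Fin k → Fin 4 → ZMod 7 := Prod.fst v

/-- second component -/
def VK.b {k : ℕ} (v : VK k) : Fin k → Fin 12 → ZMod 3 := Prod.snd v

theorem VK.ext {k : ℕ} {v w : VK k} (h1 : v.a = w.a) (h2 : v.b = w.b) : v = w := Prod.ext h1 h2

@[simp] theorem VK.mk_a {k : ℕ} (a : Fin k → Fin 4 → ZMod 7) (b : Fin k → Fin 12 → ZMod 3) :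
    (VK.mk a b).a = a := rfl

@[simp] theorem VK.mk_b {k : ℕ} (a : Fin k → Fin 4 → ZMod 7) (b : Fin k → Fin 12 → ZMod 3) :
    (VK.mk a b).b = b := rfl

@[simp] theorem VK.zero_a {k : ℕ} : (0 : VK k).a = 0 := rfl
@[simp] theorem VK.zero_b {k : ℕ} : (0 : VK k).b = 0 := rfl
@[simp] theorem VK.add_a {k : ℕ} (v w : VK k) : (v + w).a = v.a + w.a := rfl
@[simp] theorem VK.add_b {k : ℕ} (v w : VK k) : (v + w).b = v.b + w.b := rfl
theorem VK.nsmul_a {k : ℕ} (n : ℕ) (v : VK k) : (n • v).a = n • v.a := rfl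
theorem VK.nsmul_b {k : ℕ} (n : ℕ) (v : VK k) : (n • v).b = n • v.b := rfl

instance (k : ℕ) : SMul ↥KG (VK k) :=
  ⟨fun g v => VK.mk (fun j => Matrix.mulVec (phi g).1 (v.a j)) (fun j => Matrix.mulVec (phi g).2 (v.b j))⟩

theorem smul_a {k : ℕ} (g : ↥KG) (v : VK k) :
    (g • v).a = fun j => Matrix.mulVec (phi g).1 (v.a j) := rfl

theorem smul_b {k : ℕ} (g : ↥KG) (v : VK k) :
    (g • v).b = fun j => Matrix.mulVec (phi g).2 (v.b j) := rfl

instance (k : ℕ) : DistribMulAction ↥KG (VK k) where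
  one_smul v := by
    apply VK.ext
    · rw [smul_a, map_one]; funext j; exact Matrix.one_mulVec _
    · rw [smul_b, map_one]; funext j; exact Matrix.one_mulVec _
  mul_smul g h v := by
    apply VK.ext
    · rw [smul_a, smul_a, smul_a, map_mul]; funext j
      exact (Matrix.mulVec_mulVec _ _ _).symm
    · rw [smul_b, smul_b, smul_b, map_mul]; funext j
      exact (Matrix.mulVec_mulVec _ _ _).symm
  smul_zero g := by
    apply VK.ext
    · rw [smul_a]; funext j; exact Matrix.mulVec_zero _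
    · rw [smul_b]; funext j; exact Matrix.mulVec_zero _
  smul_add g v w := by
    apply VK.ext
    · show (fun j => Matrix.mulVec (phi g).1 ((v.a + w.a) j)) = (g • v).a + (g • w).a
      funext j
      exact Matrix.mulVec_add _ _ _
    · show (fun j => Matrix.mulVec (phi g).2 ((v.b + w.b) j)) = (g • v).b + (g • w).b
      funext j
      exact Matrix.mulVec_add _ _ _

/-- the semidirect products -/
abbrev HK (k : ℕ) : Type := AffGp ↥KG (VK k)

theorem pow_v_sum {H V : Type*} [Group H] [AddCommGroup V] [DistribMulAction H V] (w : AffGp H V)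
    (n : ℕ) : (w ^ n).v = ∑ i ∈ Finset.range n, (w.g ^ i) • w.v := by
  induction n with
  | zero => simp
  | succ n ih => rw [pow_succ, AffGp.mul_v, ih, AffGp.pow_g, Finset.sum_range_succ]

theorem gs_succ {R : Type*} [Semiring R] (n : ℕ) (a : R) : gs (n + 1) a = gs n a + a ^ n := by
  unfold gs
  rw [Finset.sum_range_succ]

theorem sum_smul_a {k : ℕ} (g : ↥KG) (v : VK k) (n : ℕ) :
    (∑ i ∈ Finset.range n, (g ^ i) • v).a = fun j => Matrix.mulVec (gs n (phi g).1) (v.a j) := by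
  induction n with
  | zero =>
    funext j
    simp [gs]
  | succ n ih =>
    rw [Finset.sum_range_succ, VK.add_a, ih, smul_a, gs_succ, map_pow]
    funext j
    rw [Pi.add_apply, Matrix.add_mulVec]
    rfl

theorem sum_smul_b {k : ℕ} (g : ↥KG) (v : VK k) (n : ℕ) :
    (∑ i ∈ Finset.range n, (g ^ i) • v).b = fun j => Matrix.mulVec (gs n (phi g).2) (v.b j) := by
  induction n with
  | zero =>
    funext j
    simp [gs]
  | succ n ih =>
    rw [Finset.sum_range_succ, VK.add_b, ih, smul_b, gs_succ, map_pow]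
    funext j
    rw [Pi.add_apply, Matrix.add_mulVec]
    rfl

theorem pow_v_a {k : ℕ} (w : HK k) (n : ℕ) :
    (w ^ n).v.a = fun j => Matrix.mulVec (gs n (phi w.g).1) (w.v.a j) := by
  rw [pow_v_sum, sum_smul_a]

theorem pow_v_b {k : ℕ} (w : HK k) (n : ℕ) :
    (w ^ n).v.b = fun j => Matrix.mulVec (gs n (phi w.g).2) (w.v.b j) := by
  rw [pow_v_sum, sum_smul_b]

theorem g_pow_eq_one {g : ↥KG} {n : ℕ} (h1 : (phi g).1 ^ n = 1) (h2 : (phi g).2 ^ n = 1) :
    g ^ n = 1 := by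
  apply phi_injective
  rw [map_pow, map_one]
  exact Prod.ext h1 h2

theorem HK_pow_of_gs {k : ℕ} (n : ℕ) (w : HK k) (h1 : gs n (phi w.g).1 = 0)
    (h2 : gs n (phi w.g).2 = 0) : w ^ n = 1 := by
  have hg : w.g ^ n = 1 := g_pow_eq_one (pow_eq_one_of_gs h1) (pow_eq_one_of_gs h2)
  apply AffGp.ext'
  · apply VK.ext
    · rw [pow_v_a, h1]
      funext j
      exact Matrix.zero_mulVec _
    · rw [pow_v_b, h2]
      funext j
      exact Matrix.zero_mulVec _
  · rw [AffGp.pow_g, hg]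
    rfl

theorem three_nsmul_b {k : ℕ} (b : Fin k → Fin 12 → ZMod 3) : 3 • b = 0 := by
  funext j i
  have key : ∀ a : ZMod 3, 3 • a = 0 := by decide
  exact key _

theorem twentyone_nsmul {k : ℕ} (v : VK k) : 21 • v = 0 := by
  apply VK.ext
  · rw [VK.nsmul_a]
    funext j i
    have key : ∀ a : ZMod 7, 21 • a = 0 := by decide
    exact key _
  · rw [VK.nsmul_b]
    funext j i
    have key : ∀ a : ZMod 3, 21 • a = 0 := by decide
    exact key _

theorem HK_pow_of_gs_fst {k : ℕ} (n : ℕ) (w : HK k) (h1 : gs n (phi w.g).1 = 0)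
    (h2 : (phi w.g).2 ^ n = 1) : w ^ (n * 3) = 1 := by
  have hg : w.g ^ n = 1 := g_pow_eq_one (pow_eq_one_of_gs h1) h2
  have h3 : w ^ n = ⟨(w ^ n).v, 1⟩ := AffGp.ext' rfl (by rw [AffGp.pow_g, hg])
  rw [pow_mul, h3, AffGp.trans_pow]
  refine AffGp.ext' ?_ rfl
  show 3 • (w ^ n).v = 0
  apply VK.ext
  · rw [VK.nsmul_a, pow_v_a, h1]
    funext j
    rw [Pi.smul_apply, Matrix.zero_mulVec, smul_zero]
    rfl
  · rw [VK.nsmul_b, three_nsmul_b]
    rfl

/-- the fundamental property of the elements of `HK k` -/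
theorem HK_pow (k : ℕ) (w : HK k) :
    w ^ 8 = 1 ∨ w ^ 9 = 1 ∨ w ^ 10 = 1 ∨ w ^ 12 = 1 ∨ w ^ 15 = 1 ∨ w ^ 21 = 1 := by
  rcases good_KG w.g with h | ⟨h, h'⟩ | ⟨h, h'⟩ | ⟨h, h'⟩ | ⟨h, h'⟩ | ⟨h, h'⟩
  · have hg : w.g = 1 := phi_injective (by rw [h, map_one])
    have h3 : w = ⟨w.v, 1⟩ := AffGp.ext' rfl hg
    refine Or.inr (Or.inr (Or.inr (Or.inr (Or.inr ?_))))
    rw [h3, AffGp.trans_pow, twentyone_nsmul]
    rfl
  · exact Or.inl (HK_pow_of_gs 8 w h h')
  · exact Or.inr (Or.inr (Or.inl (HK_pow_of_gs 10 w h h')))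
  · exact Or.inr (Or.inr (Or.inr (Or.inl (HK_pow_of_gs 12 w h h'))))
  · exact Or.inr (Or.inl (HK_pow_of_gs_fst 3 w h h'))
  · exact Or.inr (Or.inr (Or.inr (Or.inr (Or.inl (HK_pow_of_gs_fst 5 w h h')))))

theorem mem_specList_of_dvd {n : ℕ}
    (h : n ∣ 8 ∨ n ∣ 9 ∨ n ∣ 10 ∨ n ∣ 12 ∨ n ∣ 15 ∨ n ∣ 21) : n ∈ specList := by
  have hle : n ≤ 21 := by
    rcases h with h | h | h | h | h | h <;> have := Nat.le_of_dvd (by norm_num) h <;> omega
  interval_cases n <;> first | decide | (exfalso; revert h; decide)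

theorem orderOf_mem_specList (k : ℕ) (w : HK k) : orderOf w ∈ specList := by
  apply mem_specList_of_dvd
  rcases HK_pow k w with h | h | h | h | h | h
  · exact Or.inl (orderOf_dvd_of_pow_eq_one h)
  · exact Or.inr (Or.inl (orderOf_dvd_of_pow_eq_one h))
  · exact Or.inr (Or.inr (Or.inl (orderOf_dvd_of_pow_eq_one h)))
  · exact Or.inr (Or.inr (Or.inr (Or.inl (orderOf_dvd_of_pow_eq_one h))))
  · exact Or.inr (Or.inr (Or.inr (Or.inr (Or.inl (orderOf_dvd_of_pow_eq_one h)))))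
  · exact Or.inr (Or.inr (Or.inr (Or.inr (Or.inr (orderOf_dvd_of_pow_eq_one h)))))

end Cfsg.Agent.Lib.Helper4.Maz
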