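import Mathlib
import Cfsg.Agent.Lib.Helper4.Maz.Semi

/-!
# The element orders of the semidirect products `(7 ^ (4k) × 3 ^ (12k)) : K`, `k ≥ 1`

They are exactly the element orders of the alternating group of degree ten.
-/

set_option autoImplicit false

namespace Cfsg.Agent.Lib.Helper4.Maz

open Cfsg.Agent.Lib.Helper7 Cfsg.Agent.Lib.Helper1.MatCode

theorem fpf_3 : (hor 4 7 c1.1 c3.1 2 == 0) = true := by decide +kernel

theorem fpf_5 : (hor 4 7 c1.1 cY.1 4 == 0) = true := by decide +kernel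

theorem gs_g3_fst : gs 3 (phi g3).1 = 0 := by
  rw [phi_g3]
  exact gs7_of_hor DP_c1 canon_c3 2 fpf_3

theorem gs_yK_fst : gs 5 (phi yK).1 = 0 := by
  rw [phi_yK]
  exact gs7_of_hor DP_c1 canon_cY 4 fpf_5

theorem exists_mulVec_ne (M : M3) (h : M ≠ 0) : ∃ u : Fin 12 → ZMod 3, Matrix.mulVec M u ≠ 0 := by
  by_contra hcon
  push_neg at hcon
  apply h
  ext i j
  have h1 := congrFun (hcon (Pi.single j 1)) i
  rw [Matrix.mulVec_single_one] at h1
  exact h1

theorem exists_of_dvd {G : Type*} [Group G] (x : G) (m n : ℕ) (hx : orderOf x = m) (hm : 0 < m)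
    (hn : n ∣ m) : ∃ y : G, orderOf y = n := by
  refine ⟨x ^ (m / n), ?_⟩
  have hd : m / n ∣ orderOf x := by rw [hx]; exact Nat.div_dvd_of_dvd hn
  have h0 : m / n ≠ 0 := by
    intro h
    rcases (Nat.div_eq_zero_iff).mp h with h | h
    · subst h
      rw [zero_dvd_iff] at hn
      omega
    · exact absurd (Nat.le_of_dvd hm hn) (by omega)
  rw [orderOf_pow_of_dvd h0 hd, hx, Nat.div_div_self hn hm.ne']

theorem exists_orderOf_inr (k n : ℕ) (g : ↥KG) (hg : orderOf g = n) : ∃ w : HK k, orderOf w = n :=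
  ⟨AffGp.inr g, by rw [AffGp.orderOf_inr, hg]⟩

theorem phi_pow_orderOf (g : ↥KG) (n : ℕ) (hg : orderOf g = n) : (phi g).2 ^ n = 1 := by
  have h : phi g ^ n = 1 := by rw [← map_pow, ← hg, pow_orderOf_eq_one, map_one]
  exact congrArg Prod.snd h

theorem phi_g3_pow : (phi g3).2 ^ 3 = 1 := phi_pow_orderOf g3 3 orderOf_g3

theorem phi_yK_pow : (phi yK).2 ^ 5 = 1 := phi_pow_orderOf yK 5 orderOf_yK

/-- the element with translation part `(0, (u, …, u))` and linear part `g` -/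
def wOf (k : ℕ) (g : ↥KG) (u : Fin 12 → ZMod 3) : HK (k + 1) := ⟨VK.mk 0 (fun _ => u), g⟩

theorem wOf_g (k : ℕ) (g : ↥KG) (u : Fin 12 → ZMod 3) : (wOf k g u).g = g := rfl

theorem wOf_pow_ne_one (k : ℕ) (g : ↥KG) (u : Fin 12 → ZMod 3) (n : ℕ)
    (hu : Matrix.mulVec (gs n (phi g).2) u ≠ 0) : wOf k g u ^ n ≠ 1 := by
  intro h
  have h1 : (wOf k g u ^ n).v.b = 0 := by rw [h]; rfl
  rw [pow_v_b] at h1
  exact hu (congrFun h1 0)

theorem exists_order_nine_of (k : ℕ) (g : ↥KG) (h1 : gs 3 (phi g).1 = 0) (h2 : (phi g).2 ^ 3 = 1)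
    (h3 : gs 3 (phi g).2 ≠ 0) : ∃ w : HK (k + 1), orderOf w = 9 := by
  obtain ⟨u, hu⟩ := exists_mulVec_ne _ h3
  have e1 : wOf k g u ^ 3 ^ (1 + 1) = 1 := HK_pow_of_gs_fst 3 (wOf k g u) h1 h2
  have e2 : ¬ wOf k g u ^ 3 ^ 1 = 1 := by
    rw [pow_one]
    exact wOf_pow_ne_one k g u 3 hu
  have : Fact (Nat.Prime 3) := ⟨Nat.prime_three⟩
  exact ⟨wOf k g u, orderOf_eq_prime_pow e2 e1⟩

theorem exists_order_fifteen_of (k : ℕ) (g : ↥KG) (h1 : gs 5 (phi g).1 = 0)
    (h2 : (phi g).2 ^ 5 = 1) (h3 : gs 5 (phi g).2 ≠ 0) (h4 : orderOf g = 5) :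
    ∃ w : HK (k + 1), orderOf w = 15 := by
  obtain ⟨u, hu⟩ := exists_mulVec_ne _ h3
  have e1 : wOf k g u ^ 15 = 1 := HK_pow_of_gs_fst 5 (wOf k g u) h1 h2
  have e2 : wOf k g u ^ 5 ≠ 1 := wOf_pow_ne_one k g u 5 hu
  have e3 : wOf k g u ^ 3 ≠ 1 := by
    intro h
    have h5 : (wOf k g u ^ 3).g = 1 := by rw [h]; rfl
    rw [AffGp.pow_g, wOf_g] at h5
    have h6 := orderOf_dvd_of_pow_eq_one h5
    rw [h4] at h6
    revert h6
    norm_num
  refine ⟨wOf k g u, ?_⟩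
  apply orderOf_eq_of_pow_and_pow_div_prime (by norm_num) e1
  intro p hp hd
  have h7 : p = 3 ∨ p = 5 := by
    have hle : p ≤ 15 := Nat.le_of_dvd (by norm_num) hd
    interval_cases p <;> first
      | (exfalso; revert hp; norm_num; done)
      | (exfalso; revert hd; norm_num; done)
      | simp
  rcases h7 with rfl | rfl
  · have e : (15 / 3 : ℕ) = 5 := by norm_num
    rw [e]
    exact e2
  · have e : (15 / 5 : ℕ) = 3 := by norm_num
    rw [e]
    exact e3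

theorem exists_order_nine (k : ℕ) : ∃ w : HK (k + 1), orderOf w = 9 :=
  exists_order_nine_of k g3 gs_g3_fst phi_g3_pow gs_g3_ne

theorem exists_order_fifteen (k : ℕ) : ∃ w : HK (k + 1), orderOf w = 15 :=
  exists_order_fifteen_of k yK gs_yK_fst phi_yK_pow gs_yK_ne orderOf_yK

theorem exists_order_twentyone (k : ℕ) : ∃ w : HK (k + 1), orderOf w = 21 := by
  let v : VK (k + 1) := VK.mk (fun _ _ => 1) (fun _ _ => 1)
  let w : HK (k + 1) := ⟨v, 1⟩
  have hw : ∀ n : ℕ, w ^ n = ⟨n • v, 1⟩ := fun n => AffGp.trans_pow v n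
  have e1 : w ^ 21 = 1 := by
    rw [hw, twentyone_nsmul]
    rfl
  have e2 : w ^ 7 ≠ 1 := by
    intro h
    rw [hw] at h
    have h1 : (7 • v).b = 0 := congrArg (fun x : HK (k + 1) => x.v.b) h
    have h2 := congrFun (congrFun h1 0) 0
    rw [VK.nsmul_b] at h2
    have h3 : (7 • (1 : ZMod 3)) = 0 := h2
    revert h3
    decide
  have e3 : w ^ 3 ≠ 1 := by
    intro h
    rw [hw] at h
    have h1 : (3 • v).a = 0 := congrArg (fun x : HK (k + 1) => x.v.a) h
    have h2 := congrFun (congrFun h1 0) 0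
    rw [VK.nsmul_a] at h2
    have h3 : (3 • (1 : ZMod 7)) = 0 := h2
    revert h3
    decide
  refine ⟨w, ?_⟩
  apply orderOf_eq_of_pow_and_pow_div_prime (by norm_num) e1
  intro p hp hd
  have h2 : p = 3 ∨ p = 7 := by
    have hle : p ≤ 21 := Nat.le_of_dvd (by norm_num) hd
    interval_cases p <;> first
      | (exfalso; revert hp; norm_num; done)
      | (exfalso; revert hd; norm_num; done)
      | simp
  rcases h2 with rfl | rfl
  · have e : (21 / 3 : ℕ) = 7 := by norm_num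
    rw [e]
    exact e2
  · have e : (21 / 7 : ℕ) = 3 := by norm_num
    rw [e]
    exact e3

theorem exists_orderOf_of_mem (k : ℕ) {n : ℕ} (hn : n ∈ specList) :
    ∃ w : HK (k + 1), orderOf w = n := by
  obtain ⟨w8, h8⟩ := exists_orderOf_inr (k + 1) 8 xK orderOf_xK
  obtain ⟨w10, h10⟩ := exists_orderOf_inr (k + 1) 10 g10 orderOf_g10
  obtain ⟨w12, h12⟩ := exists_orderOf_inr (k + 1) 12 g12 orderOf_g12
  obtain ⟨w9, h9⟩ := exists_order_nine k
  obtain ⟨w15, h15⟩ := exists_order_fifteen k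
  obtain ⟨w21, h21⟩ := exists_order_twentyone k
  simp only [specList, List.mem_cons, List.not_mem_nil, or_false] at hn
  rcases hn with rfl | rfl | rfl | rfl | rfl | rfl | rfl | rfl | rfl | rfl | rfl | rfl | rfl
  · exact exists_of_dvd w8 8 1 h8 (by norm_num) (by norm_num)
  · exact exists_of_dvd w8 8 2 h8 (by norm_num) (by norm_num)
  · exact exists_of_dvd w9 9 3 h9 (by norm_num) (by norm_num)
  · exact exists_of_dvd w8 8 4 h8 (by norm_num) (by norm_num)
  · exact exists_of_dvd w10 10 5 h10 (by norm_num) (by norm_num)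
  · exact exists_of_dvd w12 12 6 h12 (by norm_num) (by norm_num)
  · exact exists_of_dvd w21 21 7 h21 (by norm_num) (by norm_num)
  · exact ⟨w8, h8⟩
  · exact ⟨w9, h9⟩
  · exact ⟨w10, h10⟩
  · exact ⟨w12, h12⟩
  · exact ⟨w15, h15⟩
  · exact ⟨w21, h21⟩

/-- the element orders of `HK (k + 1)` are those of `A₁₀` -/
theorem HK_spectrum (k : ℕ) :
    Set.range (orderOf : HK (k + 1) → ℕ) = Set.range (orderOf : alternatingGroup (Fin 10) → ℕ) := by
  rw [a10_spectrum]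
  ext n
  constructor
  · rintro ⟨w, rfl⟩
    exact orderOf_mem_specList (k + 1) w
  · intro hn
    exact exists_orderOf_of_mem k hn

theorem lt_card_HK (N : ℕ) : N < Nat.card (HK (N + 1)) := by
  have h1 : Nat.card (VK (N + 1)) ≤ Nat.card (HK (N + 1)) := AffGp.card_ge
  have h2 : Nat.card (VK (N + 1)) = (7 ^ 4) ^ (N + 1) * (3 ^ 12) ^ (N + 1) := by
    show Nat.card ((Fin (N + 1) → Fin 4 → ZMod 7) × (Fin (N + 1) → Fin 12 → ZMod 3)) = _
    rw [Nat.card_prod, Nat.card_fun, Nat.card_fun, Nat.card_fun, Nat.card_fun]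
    simp [Nat.card_eq_fintype_card]
  have h3 : N + 1 < (7 ^ 4) ^ (N + 1) := Nat.lt_pow_self (by norm_num)
  have h4 : 1 ≤ (3 ^ 12) ^ (N + 1) := Nat.one_le_pow _ _ (by norm_num)
  have h5 : (7 ^ 4) ^ (N + 1) ≤ (7 ^ 4) ^ (N + 1) * (3 ^ 12) ^ (N + 1) := Nat.le_mul_of_pos_right _ h4
  omega

end Cfsg.Agent.Lib.Helper4.Maz
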